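import Groth.Agent.Coherent.Existence.HomAffine
import Groth.Agent.Coherent.InternalHomAdj
import Groth.Agent.Coherent.SupportPullback
import Groth.Agent.EGA43.QcohFP
import Groth.Agent.CAlgMisc2.HomDepth
import Groth.Agent.Coherent.Devissage

/-!
# Stalks of the internal Hom of coherent modules on a locally Noetherian scheme
-/

set_option autoImplicit false
set_option backward.isDefEq.respectTransparency false
set_option backward.isDefEq.respectTransparency.types false
set_option maxHeartbeats 800000

universe u

open CategoryTheory CategoryTheory.Limits AlgebraicGeometry Opposite TopologicalSpace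
open Groth.Agent.Coherent Groth.Agent.Coherent.Existence Groth.Agent.PicLib

namespace Groth.Agent.HomStalk14

variable {X : Scheme.{u}} [IsLocallyNoetherian X] {F G : X.Modules}

/-- `Hom(F, G)_x = Hom(F_x, G_x)` for coherent `F`, `G`. -/
theorem nonempty_stalk_internalHom_equiv (hF : Coh.IsCoh F) (hG : Coh.IsCoh G) (x : X) :
    Nonempty ((internalHom F G).presheaf.stalk x ≃ₗ[X.presheaf.stalk x]
      (F.presheaf.stalk x →ₗ[X.presheaf.stalk x] G.presheaf.stalk x)) := by
  have := hF.1
  have := hG.1
  have := (isCoh_internalHom hF hG).1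
  obtain ⟨_, ⟨W, hW, rfl⟩, hxW, -⟩ := X.isBasis_affineOpens.exists_subset_of_mem_open
    (Set.mem_univ x) isOpen_univ
  letI := (X.presheaf.germ W x hxW).hom.toAlgebra
  letI := Module.compHom (F.presheaf.stalk x) (X.presheaf.germ W x hxW).hom
  letI := Module.compHom (G.presheaf.stalk x) (X.presheaf.germ W x hxW).hom
  letI := Module.compHom ((internalHom F G).presheaf.stalk x) (X.presheaf.germ W x hxW).hom
  haveI : IsScalarTower Γ(X, W) (X.presheaf.stalk x) (F.presheaf.stalk x) :=
    IsScalarTower.of_algebraMap_smul fun _ _ => rfl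
  haveI : IsScalarTower Γ(X, W) (X.presheaf.stalk x) (G.presheaf.stalk x) :=
    IsScalarTower.of_algebraMap_smul fun _ _ => rfl
  haveI : IsScalarTower Γ(X, W) (X.presheaf.stalk x) ((internalHom F G).presheaf.stalk x) :=
    IsScalarTower.of_algebraMap_smul fun _ _ => rfl
  let S := (hW.primeIdealOf ⟨x, hxW⟩).asIdeal.primeCompl
  haveI : IsLocalization S (X.presheaf.stalk x) := hW.isLocalization_stalk ⟨x, hxW⟩
  haveI : IsNoetherianRing Γ(X, W) := IsLocallyNoetherian.component_noetherian ⟨W, hW⟩
  haveI : Module.Finite Γ(X, W) Γ(F, W) := ((isCoh_iff_finite_sections F).1 hF).2 W hW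
  haveI : Module.FinitePresentation Γ(X, W) Γ(F, W) := Module.finitePresentation_of_finite _ _
  let gF : Γ(F, W) →ₗ[Γ(X, W)] F.presheaf.stalk x :=
    { toFun := fun a => F.presheaf.germ W x hxW a
      map_add' := fun a b => map_add _ a b
      map_smul' := fun r a => QCohLoc.germ_smul' F hxW r a }
  let gG : Γ(G, W) →ₗ[Γ(X, W)] G.presheaf.stalk x :=
    { toFun := fun a => G.presheaf.germ W x hxW a
      map_add' := fun a b => map_add _ a b
      map_smul' := fun r a => QCohLoc.germ_smul' G hxW r a }
  let gH : Γ(internalHom F G, W) →ₗ[Γ(X, W)] (internalHom F G).presheaf.stalk x :=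
    { toFun := fun a => (internalHom F G).presheaf.germ W x hxW a
      map_add' := fun a b => map_add _ a b
      map_smul' := fun r a => QCohLoc.germ_smul' (internalHom F G) hxW r a }
  haveI : IsLocalizedModule S gF := EGA43.QcohFP.isLocalizedModule_germ F hW hxW gF fun _ => rfl
  haveI : IsLocalizedModule S gG := EGA43.QcohFP.isLocalizedModule_germ G hW hxW gG fun _ => rfl
  haveI : IsLocalizedModule S gH :=
    EGA43.QcohFP.isLocalizedModule_germ (internalHom F G) hW hxW gH fun _ => rfl
  let m := IsLocalizedModule.mapExtendScalars S gF gG (X.presheaf.stalk x)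
  haveI : IsLocalizedModule S m :=
    Module.FinitePresentation.isLocalizedModule_mapExtendScalars S gF gG (X.presheaf.stalk x)
  haveI : IsLocalizedModule S (m ∘ₗ (secLinEquiv (F := F) (N := G) hW).toLinearMap) :=
    IsLocalizedModule.of_linearEquiv_right S m (secLinEquiv (F := F) (N := G) hW)
  exact ⟨(IsLocalizedModule.linearEquiv S gH (m ∘ₗ (secLinEquiv (F := F) (N := G) hW).toLinearMap)).extendScalarsOfIsLocalization
    S (X.presheaf.stalk x)⟩

variable (F) in
/-- The stalk of the sheaf Hom. -/
theorem nonempty_stalk_sheafHom_equiv [DCoh.HasSheafHom F] (hF : Coh.IsCoh F) (hG : Coh.IsCoh G) (x : X) :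
    Nonempty (((DCoh.sheafHom F).obj G).presheaf.stalk x ≃ₗ[X.presheaf.stalk x]
      (F.presheaf.stalk x →ₗ[X.presheaf.stalk x] G.presheaf.stalk x)) := by
  obtain ⟨e⟩ := nonempty_stalk_internalHom_equiv hF hG x
  exact ⟨(((DerSch.stalkFunctor X x).mapIso ((sheafHomIso F).app G)).toLinearEquiv).trans e⟩

theorem supportDim_hom_le {R M N : Type u} [CommRing R] [AddCommGroup M] [Module R M] [AddCommGroup N]
    [Module R N] [Module.Finite R N] [Module.Finite R (M →ₗ[R] N)] :
    Module.supportDim R (M →ₗ[R] N) ≤ Module.supportDim R N := by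
  rw [Module.supportDim_eq_ringKrullDim_quotient_annihilator,
    Module.supportDim_eq_ringKrullDim_quotient_annihilator]
  have hle : Module.annihilator R N ≤ Module.annihilator R (M →ₗ[R] N) := fun a ha =>
    Module.mem_annihilator.2 fun φ => LinearMap.ext fun m => Module.mem_annihilator.1 ha _
  exact ringKrullDim_le_of_surjective (Ideal.Quotient.factor hle) (Ideal.Quotient.factor_surjective _)

end Groth.Agent.HomStalk14
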